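import Mathlib
import Mathlib.GroupTheory.Nilpotent

/-!
# Camina pairs: elementary facts

`(G, N)` is a Camina pair when the coset `gN` of every `g` outside `N` consists of conjugates of `g`.
-/

set_option autoImplicit false
set_option linter.style.haveILetI false

namespace Cfsg.Agent.CaminaPair

universe u

variable {G : Type u} [Group G] {N : Subgroup G} [N.Normal]

/-- The defining property of a Camina pair. -/
def IsCam (N : Subgroup G) : Prop := ∀ g : G, g ∉ N → ∀ n ∈ N, ∃ x : G, x * g * x⁻¹ = g * n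

omit [N.Normal] in
theorem orderOf_mul (h : IsCam N) {g n : G} (hg : g ∉ N) (hn : n ∈ N) :
    orderOf (g * n) = orderOf g := by
  obtain ⟨x, hx⟩ := h g hg n hn
  rw [← hx]
  exact orderOf_injective (MulAut.conj x).toMonoidHom (MulAut.conj x).injective g

omit [N.Normal] in
theorem pow_eq_one (h : IsCam N) {g n : G} (hg : g ∉ N) (hn : n ∈ N) (hc : Commute g n) :
    n ^ orderOf g = 1 := by
  have e := pow_orderOf_eq_one (g * n)
  rwa [orderOf_mul h hg hn, hc.mul_pow, pow_orderOf_eq_one, one_mul] at e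

theorem card_centralizer [Finite G] (h : IsCam N) {g : G} (hg : g ∉ N) :
    Nat.card (Subgroup.centralizer ({g} : Set G)) =
      Nat.card (Subgroup.centralizer ({(g : G ⧸ N)} : Set (G ⧸ N))) := by
  classical
  set C := Subgroup.centralizer ({(g : G ⧸ N)} : Set (G ⧸ N))
  set S := C.comap (QuotientGroup.mk' N) with hS
  have hmem : ∀ y : G, y ∈ S ↔ g⁻¹ * (y * g * y⁻¹) ∈ N := by
    intro y
    rw [hS, Subgroup.mem_comap, Subgroup.mem_centralizer_singleton_iff, QuotientGroup.mk'_apply,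
      ← QuotientGroup.eq, QuotientGroup.mk_mul, QuotientGroup.mk_mul, QuotientGroup.mk_inv,
      eq_mul_inv_iff_mul_eq, eq_comm]
  choose x hx using fun n : N => h g hg n n.2
  let e : S ≃ N × Subgroup.centralizer ({g} : Set G) :=
    { toFun := fun y => (⟨g⁻¹ * ((y : G) * g * (y : G)⁻¹), (hmem y).1 y.2⟩,
        ⟨(x ⟨g⁻¹ * ((y : G) * g * (y : G)⁻¹), (hmem y).1 y.2⟩)⁻¹ * (y : G), by
          rw [Subgroup.mem_centralizer_singleton_iff]
          have e := hx ⟨g⁻¹ * ((y : G) * g * (y : G)⁻¹), (hmem y).1 y.2⟩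
          set z := x ⟨g⁻¹ * ((y : G) * g * (y : G)⁻¹), (hmem y).1 y.2⟩
          have e' : z * g * z⁻¹ = (y : G) * g * (y : G)⁻¹ := by
            rw [e]
            show g * (g⁻¹ * _) = _
            rw [mul_inv_cancel_left]
          calc z⁻¹ * (y : G) * g = z⁻¹ * ((y : G) * g * (y : G)⁻¹) * y := by group
            _ = z⁻¹ * (z * g * z⁻¹) * y := by rw [e']
            _ = g * (z⁻¹ * (y : G)) := by group⟩)
      invFun := fun q => ⟨x q.1 * (q.2 : G), by
        rw [hmem]
        have e := Subgroup.mem_centralizer_singleton_iff.1 q.2.2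
        have : x q.1 * (q.2 : G) * g * (x q.1 * (q.2 : G))⁻¹ = g * q.1 := by
          rw [← hx q.1, mul_assoc (x q.1), e]
          group
        rw [this, inv_mul_cancel_left]
        exact q.1.2⟩
      left_inv := fun y => Subtype.ext (mul_inv_cancel_left _ _)
      right_inv := fun q => by
        have e := Subgroup.mem_centralizer_singleton_iff.1 q.2.2
        have h1 : x q.1 * (q.2 : G) * g * (x q.1 * (q.2 : G))⁻¹ = g * q.1 := by
          rw [← hx q.1, mul_assoc (x q.1), e]
          group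
        have h2 : (⟨g⁻¹ * (x q.1 * (q.2 : G) * g * (x q.1 * (q.2 : G))⁻¹), by
            rw [h1, inv_mul_cancel_left]; exact q.1.2⟩ : N) = q.1 := by
          refine Subtype.ext ?_
          show g⁻¹ * _ = (q.1 : G)
          rw [h1, inv_mul_cancel_left]
        refine Prod.ext h2 (Subtype.ext ?_)
        show (x _)⁻¹ * (x q.1 * (q.2 : G)) = q.2
        rw [h2, inv_mul_cancel_left] }
  have h1 := Nat.card_congr e
  rw [Nat.card_prod] at h1
  have h2 := S.card_mul_index
  rw [hS, C.index_comap_of_surjective (QuotientGroup.mk'_surjective N), ← hS, h1,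
    ← N.card_mul_index, Subgroup.index_eq_card N, ← C.card_mul_index, mul_assoc] at h2
  have h3 := mul_left_cancel₀ (Nat.card_pos (α := N)).ne' h2
  exact mul_right_cancel₀ Subgroup.index_ne_zero_of_finite h3

omit [N.Normal] in
theorem map_quotient (h : IsCam N) (K : Subgroup G) [K.Normal] :
    IsCam (N.map (QuotientGroup.mk' K)) := by
  intro g hg n hn
  obtain ⟨g, rfl⟩ := QuotientGroup.mk'_surjective K g
  obtain ⟨n, hn, rfl⟩ := hn
  have hgN : g ∉ N := fun hgN => hg ⟨g, hgN, rfl⟩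
  obtain ⟨x, hx⟩ := h g hgN n hn
  exact ⟨QuotientGroup.mk' K x, by rw [← map_inv, ← map_mul, ← map_mul, hx, map_mul]⟩

/-- An element whose image has prime order `v` has a power which is a `v`-element with nontrivial
image. -/
theorem exists_primary [Finite G] {v : ℕ} (hv : v.Prime) {x : G} (hx : x ∉ N) {k : ℕ}
    (hk : x ^ v ^ k ∈ N) : ∃ m : ℕ, ¬ v ∣ m ∧ x ^ m ∉ N ∧ ∃ l, orderOf (x ^ m) = v ^ l := by
  obtain ⟨l, m, hm, hlm⟩ :=
    Nat.exists_eq_pow_mul_and_not_dvd (orderOf_pos x).ne' v hv.ne_one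
  refine ⟨m, hm, fun hmem => hx ?_, l, ?_⟩
  · have hcop : Nat.Coprime m (v ^ k) :=
      Nat.Coprime.pow_right _ ((hv.coprime_iff_not_dvd.2 hm).symm)
    rw [← QuotientGroup.eq_one_iff] at hmem hk ⊢
    rw [QuotientGroup.mk_pow] at hmem hk
    simpa [hcop.gcd_eq_one] using
      (pow_gcd_eq_one (m := m) (n := v ^ k) (a := (x : G ⧸ N))).mpr ⟨hmem, hk⟩
  · rw [orderOf_pow x, hlm, Nat.gcd_eq_right (Dvd.intro_left _ rfl),
      Nat.mul_div_cancel _ (Nat.pos_of_ne_zero fun h0 => hm (by simp [h0]))]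

/-- If `G/N` has no noncyclic subgroup of order `v²` and `v` divides its order, then `v` does not
divide the order of `N`. -/
theorem not_dvd_card [Finite G] (h : IsCam N) {v : ℕ} (hv : v.Prime) (hvi : v ∣ N.index)
    (hno : ∀ a b : G ⧸ N, a ^ v = 1 → b ^ v = 1 → Commute a b → a ≠ 1 → b ∈ Subgroup.zpowers a) :
    ¬ v ∣ Nat.card N := by
  intro hvN
  haveI := Fact.mk hv
  obtain ⟨a₀, ha₀⟩ := exists_prime_orderOf_dvd_card' (G := G ⧸ N) v
    (by rwa [← Subgroup.index_eq_card])
  obtain ⟨c, ⟨k, hk⟩, hmax⟩ := Set.exists_max_image {q : G ⧸ N | ∃ k, orderOf q = v ^ k}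
    (fun q => orderOf q) (Set.toFinite _) ⟨a₀, 1, by rw [ha₀, pow_one]⟩
  have hk0 : k ≠ 0 := by
    rintro rfl
    have := hmax a₀ ⟨1, by rw [ha₀, pow_one]⟩
    rw [ha₀, hk, pow_zero] at this
    exact absurd this (not_le.2 hv.one_lt)
  obtain ⟨x, rfl⟩ := QuotientGroup.mk_surjective c
  have hxN : x ∉ N := fun hxN => by
    rw [(QuotientGroup.eq_one_iff x).2 hxN, orderOf_one] at hk
    exact absurd hk.symm (Nat.one_lt_pow hk0 hv.one_lt).ne'
  obtain ⟨m, hm, hgN, l, hl⟩ := exists_primary hv hxN (k := k)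
    (by rw [← QuotientGroup.eq_one_iff, QuotientGroup.mk_pow, ← hk, pow_orderOf_eq_one])
  set g := x ^ m
  set c : G ⧸ N := (g : G ⧸ N)
  have hc : orderOf c = v ^ k := by
    show orderOf ((x ^ m : G) : G ⧸ N) = _
    rw [QuotientGroup.mk_pow, Nat.Coprime.orderOf_pow, hk]
    rw [hk]
    exact Nat.Coprime.pow_left _ (hv.coprime_iff_not_dvd.2 hm)
  -- every `v`-element centralising `c` is a power of it
  have hpow : ∀ (j : ℕ) (y : G ⧸ N), orderOf y ∣ v ^ j → Commute c y → y ∈ Subgroup.zpowers c := by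
    intro j
    induction j with
    | zero =>
      intro y hy _
      rw [pow_zero, Nat.dvd_one, orderOf_eq_one_iff] at hy
      rw [hy]
      exact one_mem _
    | succ j ih =>
      intro y hy hcy
      obtain ⟨i, hi⟩ : ∃ i : ℕ, c ^ i = y ^ v := by
        have := ih (y ^ v) (orderOf_dvd_of_pow_eq_one (by
          rw [← pow_mul, ← pow_succ']
          exact orderOf_dvd_iff_pow_eq_one.1 hy)) (hcy.pow_right v)
        rw [← mem_powers_iff_mem_zpowers] at this
        exact this
      have hyk : y ^ v ^ k = 1 := by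
        obtain ⟨a, -, ha⟩ := (Nat.dvd_prime_pow hv).1 hy
        have hle : v ^ a ≤ v ^ k := by
          rw [← ha, ← hk]
          exact hmax y ⟨a, ha⟩
        exact orderOf_dvd_iff_pow_eq_one.1
          (ha ▸ Nat.pow_dvd_pow v ((Nat.pow_le_pow_iff_right hv.one_lt).1 hle))
      obtain ⟨i', rfl⟩ : v ∣ i := by
        by_contra hvi'
        have h1 : c ^ (i * v ^ (k - 1)) = 1 := by
          rw [pow_mul, hi, ← pow_mul, ← pow_succ', Nat.sub_add_cancel (Nat.pos_of_ne_zero hk0), hyk]
        have h2 := orderOf_dvd_of_pow_eq_one h1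
        rw [hc] at h2
        have h3 : v ^ k ∣ v ^ (k - 1) :=
          (Nat.Coprime.pow_left k (hv.coprime_iff_not_dvd.2 hvi')).dvd_of_dvd_mul_left h2
        have := (Nat.pow_dvd_pow_iff_le_right hv.one_lt).1 h3
        omega
      have hz : (y * (c ^ i')⁻¹) ^ v = 1 := by
        rw [((hcy.symm.pow_right i').inv_right).mul_pow, inv_pow, ← pow_mul, mul_comm i', hi,
          mul_inv_cancel]
      have ha : (c ^ v ^ (k - 1)) ^ v = 1 := by
        rw [← pow_mul, ← pow_succ, Nat.sub_add_cancel (Nat.pos_of_ne_zero hk0), ← hc,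
          pow_orderOf_eq_one]
      have ha1 : c ^ v ^ (k - 1) ≠ 1 := fun h1 => by
        have h2 := orderOf_dvd_of_pow_eq_one h1
        rw [hc] at h2
        have := (Nat.pow_dvd_pow_iff_le_right hv.one_lt).1 h2
        omega
      have := hno _ _ ha hz ((hcy.mul_right ((Commute.refl c).pow_right i').inv_right).pow_left _)
        ha1
      have h2 : y * (c ^ i')⁻¹ ∈ Subgroup.zpowers c :=
        Subgroup.zpowers_le.2 (pow_mem (Subgroup.mem_zpowers c) _) this
      simpa using mul_mem h2 (pow_mem (Subgroup.mem_zpowers c) i')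
  -- the `v`-part of the centraliser of `c`
  have hsyl : ¬ v ^ (k + 1) ∣ Nat.card (Subgroup.centralizer ({c} : Set (G ⧸ N))) := by
    intro hd
    obtain ⟨Q, hQ⟩ := Sylow.exists_subgroup_card_pow_prime v hd
    have hle : Q.map (Subgroup.centralizer ({c} : Set (G ⧸ N))).subtype ≤ Subgroup.zpowers c := by
      rintro _ ⟨q, hq, rfl⟩
      refine hpow (k + 1) _ ?_ (Subgroup.mem_centralizer_singleton_iff.1 q.2).symm
      have := orderOf_dvd_natCard (⟨q, hq⟩ : Q)
      rw [hQ, Subgroup.orderOf_mk] at this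
      rwa [Subgroup.coe_subtype, Subgroup.orderOf_coe]
    have h1 := Subgroup.card_dvd_of_le hle
    rw [Subgroup.card_map_of_injective (Subgroup.subtype_injective _), hQ, Nat.card_zpowers, hc] at h1
    have := (Nat.pow_dvd_pow_iff_le_right hv.one_lt).1 h1
    omega
  -- but the centraliser of `g` is larger
  refine hsyl (card_centralizer h hgN ▸ ?_)
  set Cg := Subgroup.centralizer ({g} : Set G)
  let f : Cg →* G ⧸ N := (QuotientGroup.mk' N).comp Cg.subtype
  rw [← f.ker.card_mul_index, Subgroup.index_ker, pow_succ']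
  refine mul_dvd_mul ?_ ?_
  · letI : MulAction (Subgroup.zpowers g) N :=
      MulAction.compHom N (((MulAut.conjNormal (H := N)).comp (Subgroup.zpowers g).subtype))
    have hpg : IsPGroup v (Subgroup.zpowers g) :=
      IsPGroup.of_card (n := l) (by rw [Nat.card_zpowers, hl])
    have hdvd : v ∣ Nat.card (MulAction.fixedPoints (Subgroup.zpowers g) N) :=
      Nat.modEq_zero_iff_dvd.1
        ((hpg.card_modEq_card_fixedPoints N).symm.trans (Nat.modEq_zero_iff_dvd.2 hvN))
    have key : ∀ n : N, n ∈ MulAction.fixedPoints (Subgroup.zpowers g) N ↔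
        (n : G) * g = g * n := by
      intro n
      constructor
      · intro hn
        have h1 : g * (n : G) * g⁻¹ = n :=
          (MulAut.conjNormal_apply g n).symm.trans
            (congrArg Subtype.val (hn ⟨g, Subgroup.mem_zpowers g⟩))
        rw [mul_inv_eq_iff_eq_mul] at h1
        exact h1.symm
      · intro hn y
        obtain ⟨i, hi⟩ := Subgroup.mem_zpowers_iff.1 y.2
        refine Subtype.ext ((MulAut.conjNormal_apply (y : G) n).trans ?_)
        rw [mul_inv_eq_iff_eq_mul, ← hi]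
        exact ((Commute.zpow_left (show Commute g n from hn.symm) i)).eq
    let e : MulAction.fixedPoints (Subgroup.zpowers g) N ≃ f.ker :=
      { toFun := fun n => ⟨⟨(n.1 : G), Subgroup.mem_centralizer_singleton_iff.2 ((key n.1).1 n.2)⟩,
          (QuotientGroup.eq_one_iff _).2 n.1.2⟩
        invFun := fun c => ⟨⟨(c.1 : G), (QuotientGroup.eq_one_iff _).1 c.2⟩,
          (key _).2 (Subgroup.mem_centralizer_singleton_iff.1 c.1.2)⟩
        left_inv := fun n => rfl
        right_inv := fun c => rfl }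
    rwa [← Nat.card_congr e]
  · have : Subgroup.zpowers c ≤ f.range :=
      Subgroup.zpowers_le.2 ⟨⟨g, Subgroup.mem_centralizer_singleton_iff.2 rfl⟩, rfl⟩
    have h1 := Subgroup.card_dvd_of_le this
    rwa [Nat.card_zpowers, hc] at h1

/-- Elements acting without fixed points: no noncyclic group of order `v²` in `G/N`. -/
theorem no_rank_two [Finite G] (h : IsCam N) {u v : ℕ} (hu : u.Prime) (hv : v.Prime) (huv : u ≠ v)
    (hne : N ≠ ⊥) (hexp : ∀ n ∈ N, n ^ u = 1) (hab : ∀ m ∈ N, ∀ n ∈ N, m * n = n * m)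
    (a b : G ⧸ N) (ha : a ^ v = 1) (hb : b ^ v = 1) (hcom : Commute a b) (ha1 : a ≠ 1) :
    b ∈ Subgroup.zpowers a := by
  classical
  haveI := Fact.mk hv
  by_contra hba
  letI : CommGroup N :=
    { (inferInstance : Group N) with mul_comm := fun m n => Subtype.ext (hab _ m.2 _ n.2) }
  let ρ : G ⧸ N →* MulAut N := QuotientGroup.lift N (MulAut.conjNormal (H := N)) (fun y hy => by
    rw [MonoidHom.mem_ker]
    refine MulEquiv.ext fun n => Subtype.ext ?_
    rw [MulAut.conjNormal_apply, hab y hy n n.2, mul_inv_cancel_right]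
    rfl)
  have hfix : ∀ q : G ⧸ N, q ≠ 1 → q ^ v = 1 → ∀ n : N, ρ q n = n → n = 1 := by
    intro q hq1 hqv n hn
    obtain ⟨x, rfl⟩ := QuotientGroup.mk_surjective q
    have hn' : Commute x (n : G) := by
      have h1 : x * (n : G) * x⁻¹ = n :=
        (MulAut.conjNormal_apply x n).symm.trans (congrArg Subtype.val hn)
      rwa [mul_inv_eq_iff_eq_mul] at h1
    obtain ⟨m, hm, hgN, l, hl⟩ := exists_primary hv (fun hx => hq1 ((QuotientGroup.eq_one_iff x).2 hx))
      (k := 1) (by rw [pow_one, ← QuotientGroup.eq_one_iff, QuotientGroup.mk_pow, hqv])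
    have h1 := pow_eq_one h hgN n.2 (hn'.pow_left m)
    rw [hl] at h1
    refine Subtype.ext ?_
    simpa [(Nat.Coprime.pow_left l ((Nat.coprime_primes hv hu).2 huv.symm)).gcd_eq_one] using
      (pow_gcd_eq_one (m := v ^ l) (n := u) (a := (n : G))).mpr ⟨h1, hexp n n.2⟩
  have hnorm : ∀ q : G ⧸ N, q ≠ 1 → q ^ v = 1 → ∀ n : N,
      ∏ i ∈ Finset.range v, ρ (q ^ i) n = 1 := by
    intro q hq1 hqv n
    refine hfix q hq1 hqv _ ?_
    rw [map_prod]
    have h1 := Finset.prod_range_succ (fun i => ρ (q ^ i) n) v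
    have h2 := Finset.prod_range_succ' (fun i => ρ (q ^ i) n) v
    rw [h1] at h2
    simp only [hqv, pow_zero] at h2
    refine (Eq.trans (Finset.prod_congr rfl fun i _ => ?_) (mul_right_cancel h2).symm)
    rw [pow_succ', map_mul]
    rfl
  have hab1 : ∀ j : ℕ, a * b ^ j ≠ 1 := by
    intro j hj
    have h1 : b ^ j = a⁻¹ := (inv_eq_of_mul_eq_one_right hj).symm
    by_cases hvj : v ∣ j
    · obtain ⟨j', rfl⟩ := hvj
      rw [pow_mul, hb, one_pow, mul_one] at hj
      exact ha1 hj
    · obtain ⟨i, hi⟩ := exists_pow_eq_self_of_coprime (G := G ⧸ N) (x := b) (n := j)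
        ((Nat.coprime_comm.1 (hv.coprime_iff_not_dvd.2 hvj)).coprime_dvd_right
          (orderOf_dvd_of_pow_eq_one hb))
      exact hba (hi ▸ h1 ▸ pow_mem (inv_mem (Subgroup.mem_zpowers a)) i)
  have hb1 : b ≠ 1 := fun h1 => hba (h1 ▸ one_mem _)
  refine hne ((Subgroup.eq_bot_iff_forall N).2 fun n hn => ?_)
  have key : (⟨n, hn⟩ : N) ^ v = 1 := by
    have h1 : ∏ i ∈ Finset.range v, ∏ j ∈ Finset.range v, ρ ((a * b ^ j) ^ i) (⟨n, hn⟩ : N) = 1 := by
      rw [Finset.prod_comm]
      exact Finset.prod_eq_one fun j _ => hnorm _ (hab1 j)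
        (by rw [(hcom.pow_right j).mul_pow, ha, ← pow_mul, mul_comm j, pow_mul, hb, one_pow,
          one_mul]) _
    rw [Finset.prod_eq_single 0 (fun i hi hi0 => ?_)
      (fun h0 => absurd (Finset.mem_range.2 hv.pos) h0)] at h1
    · simpa using h1
    have hbi : b ^ i ≠ 1 := fun h2 => by
      have := Nat.le_of_dvd (Nat.pos_of_ne_zero hi0) (orderOf_dvd_of_pow_eq_one h2)
      rw [orderOf_eq_prime hb hb1] at this
      exact absurd (Finset.mem_range.1 hi) (not_lt.2 this)
    calc ∏ j ∈ Finset.range v, ρ ((a * b ^ j) ^ i) (⟨n, hn⟩ : N)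
        = ∏ j ∈ Finset.range v, ρ (a ^ i) (ρ ((b ^ i) ^ j) (⟨n, hn⟩ : N)) :=
          Finset.prod_congr rfl fun j _ => by
            rw [(hcom.pow_right j).mul_pow, map_mul, ← pow_mul, mul_comm j, pow_mul]
            rfl
      _ = ρ (a ^ i) (∏ j ∈ Finset.range v, ρ ((b ^ i) ^ j) (⟨n, hn⟩ : N)) := (map_prod _ _ _).symm
      _ = 1 := by
        rw [hnorm _ hbi (by rw [← pow_mul, mul_comm, pow_mul, hb, one_pow]) _, map_one]
  have h2 : n ^ v = 1 := congrArg Subtype.val key
  simpa [((Nat.coprime_primes hv hu).2 huv.symm).gcd_eq_one] using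
    (pow_gcd_eq_one (m := v) (n := u) (a := n)).mpr ⟨h2, hexp n hn⟩

end Cfsg.Agent.CaminaPair
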