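import Cfsg.Agent.Lib.Camina.Basic
import Cfsg.Agent.Lib.Char.ThompsonComplement
import Cfsg.Agent.Lib.Char.Clifford
import Cfsg.Agent.Lib.Char.Degree
import Cfsg.Agent.Lib.Char.Gallagher

/-!
# Camina pairs: linear characters of the kernel
-/

set_option autoImplicit false
set_option linter.style.haveILetI false

namespace Cfsg.Agent.CaminaPair

open Cfsg Cfsg.Agent.Char Cfsg.Agent.CharExtend
open scoped ComplexConjugate

universe u

variable {G : Type u} [Group G]

/-- The intersection of the kernels of the linear characters of `N` of exponent `r`. -/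
def linRes (N : Subgroup G) (r : ℕ) : Subgroup G :=
  ({ carrier := {x | ∀ c : N →* ℂˣ, c ^ r = 1 → c x = 1}
     one_mem' := fun c _ => map_one c
     mul_mem' := fun {a b} ha hb c hc => by rw [map_mul, ha c hc, hb c hc, one_mul]
     inv_mem' := fun {a} ha c hc => by rw [map_inv, ha c hc, inv_one] } : Subgroup N).map N.subtype

theorem linRes_le (N : Subgroup G) (r : ℕ) : linRes N r ≤ N := Subgroup.map_subtype_le _

theorem linRes_normal (N : Subgroup G) [N.Normal] (r : ℕ) : (linRes N r).Normal := ⟨by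
  rintro _ ⟨a, ha, rfl⟩ g
  refine ⟨Char.conjHom N g a, fun c hc => ?_, rfl⟩
  refine ha (c.comp (Char.conjHom N g)) ?_
  ext x
  simpa using congrArg Units.val (DFunLike.congr_fun hc (Char.conjHom N g x))⟩

theorem pow_mem_linRes {N : Subgroup G} {r : ℕ} {n : G} (hn : n ∈ N) : n ^ r ∈ linRes N r :=
  ⟨⟨n, hn⟩ ^ r, fun c hc => by rw [map_pow, ← MonoidHom.pow_apply, hc, MonoidHom.one_apply], rfl⟩

theorem commutator_mem_linRes {N : Subgroup G} {r : ℕ} {m n : G} (hm : m ∈ N) (hn : n ∈ N) :
    (m * n) * (n * m)⁻¹ ∈ linRes N r :=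
  ⟨(⟨m, hm⟩ * ⟨n, hn⟩) * (⟨n, hn⟩ * ⟨m, hm⟩)⁻¹, fun c _ => by
    rw [map_mul, map_inv, map_mul, map_mul, mul_comm (c ⟨n, hn⟩), mul_inv_cancel], rfl⟩

theorem linRes_ne {N : Subgroup G} {r : ℕ} (c : N →* ℂˣ) (hc : c ^ r = 1) (hc1 : c ≠ 1) :
    linRes N r ≠ N := by
  intro h
  refine hc1 (MonoidHom.ext fun x => ?_)
  obtain ⟨y, hy, hyx⟩ := h.ge x.2
  rw [← N.subtype_injective hyx]
  exact hy c hc

/-- A nontrivial finite `r`-group has a linear character of order `r`. -/
theorem exists_linear_of_pgroup {r : ℕ} [hr : Fact r.Prime] (P : Type u) [Group P] [Finite P]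
    [Nontrivial P] (hP : IsPGroup r P) : ∃ c : P →* ℂˣ, c ^ r = 1 ∧ c ≠ 1 := by
  haveI : Group.IsNilpotent P := hP.isNilpotent
  have hcom : commutator P ≠ ⊤ := (Group.IsSolvable.commutator_lt_top_of_nontrivial P).ne
  haveI : Finite (Abelianization P) := inferInstanceAs (Finite (P ⧸ commutator P))
  haveI : NeZero (Monoid.exponent (Abelianization P) : ℂ) :=
    ⟨Nat.cast_ne_zero.mpr Monoid.exponent_ne_zero_of_finite⟩
  haveI := Char.TC.finite_hom (Abelianization P)
  obtain ⟨k, hk⟩ := (hP.to_quotient (commutator P)).exists_card_eq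
  have hk0 : k ≠ 0 := by
    rintro rfl
    rw [pow_zero, ← Subgroup.index_eq_card, Subgroup.index_eq_one] at hk
    exact hcom hk
  obtain ⟨c, hc⟩ := exists_prime_orderOf_dvd_card' (G := Abelianization P →* ℂˣ) r (by
    rw [CommGroup.card_monoidHom_of_hasEnoughRootsOfUnity]
    exact hk ▸ dvd_pow_self r hk0)
  refine ⟨c.comp Abelianization.of, ?_, fun h => hr.out.ne_one ?_⟩
  · refine MonoidHom.ext fun x => ?_
    have h1 : c ^ r = 1 := hc ▸ pow_orderOf_eq_one c
    exact DFunLike.congr_fun h1 (Abelianization.of x)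
  · rw [← hc, orderOf_eq_one_iff]
    refine MonoidHom.ext fun x => ?_
    obtain ⟨y, rfl⟩ := QuotientGroup.mk_surjective x
    exact DFunLike.congr_fun h y

/-- A finite nilpotent group has a linear character of order `r` for each prime divisor `r`. -/
theorem exists_linear_of_nilpotent {r : ℕ} [hr : Fact r.Prime] (K : Type u) [Group K] [Finite K]
    [Group.IsNilpotent K] (hrK : r ∣ Nat.card K) : ∃ c : K →* ℂˣ, c ^ r = 1 ∧ c ≠ 1 := by
  classical
  obtain ⟨P⟩ : Nonempty (Sylow r K) := inferInstance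
  haveI : Nontrivial (P : Subgroup K) := by
    rw [← Finite.one_lt_card_iff_nontrivial]
    exact lt_of_lt_of_le hr.out.one_lt (Nat.le_of_dvd Nat.card_pos (P.dvd_card_of_dvd_card hrK))
  obtain ⟨c, hc, hc1⟩ := exists_linear_of_pgroup (P : Subgroup K) P.isPGroup'
  let e := Sylow.directProductOfNormal (G := K)
    (fun {q} _ Q => Sylow.normal_of_normalizerCondition Group.normalizerCondition_of_isNilpotent Q)
  let q : (Nat.card K).primeFactors := ⟨r, Nat.mem_primeFactors.2 ⟨hr.out, hrK, Nat.card_pos.ne'⟩⟩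
  let π : (∀ p : (Nat.card K).primeFactors, ∀ Q : Sylow p K, Q) →* (P : Subgroup K) :=
    { toFun := fun x => x q P, map_one' := rfl, map_mul' := fun _ _ => rfl }
  refine ⟨c.comp (π.comp e.symm.toMonoidHom), ?_, fun h => hc1 ?_⟩
  · refine MonoidHom.ext fun x => ?_
    exact DFunLike.congr_fun hc _
  · refine MonoidHom.ext fun p => ?_
    classical
    obtain ⟨x, hx⟩ : ∃ x, π x = p := ⟨Pi.mulSingle q (Pi.mulSingle P p), by simp [π]⟩
    have := DFunLike.congr_fun h (e x)
    simpa [hx] using this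

/-- An invariant character of degree prime to `r` of a normal subgroup of `r`-power index extends,
unless the subgroup has a linear character of order `r`. -/
theorem exists_extension_of_residual {Γ : Type u} [Group Γ] [Finite Γ] {r : ℕ} [hr : Fact r.Prime]
    (M : Subgroup Γ) [M.Normal] {k : ℕ} (hk : M.index = r ^ k)
    (hres : ∀ c : M →* ℂˣ, c ^ r = 1 → c = 1) {θ : M → ℂ} (hθ : IsIrrCharacter M θ)
    (hinv : ∀ (g : Γ) (n : M), θ ⟨g * n * g⁻¹, Subgroup.Normal.conj_mem inferInstance (n : Γ) n.2 g⟩ = θ n)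
    {d : ℕ} (hd : θ 1 = d) (hrd : ¬ r ∣ d) :
    ∃ χ : Γ → ℂ, IsIrrCharacter Γ χ ∧ ∀ n : M, χ n = θ n := by
  obtain ⟨d', σ, hσ, hσc, -, hσi⟩ := exists_setup hθ hinv
  have hord : Nat.Coprime M.index (orderOf (detHom σ)) := by
    rw [hk]
    refine Nat.Coprime.pow_left _ ((Nat.Prime.coprime_iff_not_dvd hr.out).mpr fun hdiv => ?_)
    haveI := Char.TC.finite_hom M
    have := hres (detHom σ ^ (orderOf (detHom σ) / r)) (by
      exact (pow_mul (detHom σ) _ r).symm.trans
        (by rw [Nat.div_mul_cancel hdiv]; exact pow_orderOf_eq_one _))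
    have h0 : 0 < orderOf (detHom σ) := orderOf_pos (detHom σ)
    exact absurd (orderOf_dvd_of_pow_eq_one this) fun h =>
      absurd (Nat.le_of_dvd (Nat.div_pos (Nat.le_of_dvd h0 hdiv) hr.out.pos) h)
        (not_le.mpr (Nat.div_lt_self h0 hr.out.one_lt))
  obtain ⟨μ, hμ, -⟩ := exists_linear_extension (N := M) (detHom σ)
    (fun g n => Char.TC.detHom_invariant σ hσi g n) hord
  exact exists_extension_det hθ hinv hd
    (by rw [hk]; exact Nat.Coprime.pow_left _ (hr.out.coprime_iff_not_dvd.2 hrd)) μ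
    (fun n => by rw [← hσc, detChar_eq, hμ])

variable [Fintype G] {N : Subgroup G} [N.Normal]

/-- A character not containing the trivial character on `N` vanishes outside `N`. -/
theorem vanish (h : IsCam N) [Fintype N] {χ : G → ℂ} (hχ : IsIrrCharacter G χ)
    (h0 : ∑ n : N, χ n = 0) {g : G} (hg : g ∉ N) : χ g = 0 := by
  classical
  obtain ⟨d, ρ, hρ, rfl⟩ := hχ
  set f : G → ℂ := fun x => if x ∈ N then 1 else 0 with hf
  have hfc : IsClassFunction G f := fun a b => by
    simp only [hf]
    congr 1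
    exact propext ((inferInstance : N.Normal).mem_comm_iff.trans (by rw [inv_mul_cancel_left]))
  have hsum : ∀ F : G → ℂ, ∑ x, f x * F x = ∑ n : N, F n := fun F => by
    simp only [hf, ite_mul, one_mul, zero_mul]
    rw [← Finset.sum_filter]
    exact Finset.sum_subtype _ (fun x => by simp) F
  obtain ⟨c, hc⟩ := schur_scalar ρ (groupSum f ρ) (groupSum_comm hfc ρ)
  have hc0 : c = 0 := by
    have h1 := trace_groupSum f ρ
    rw [hc, map_smul, LinearMap.trace_id, hsum, h0, smul_eq_mul, mul_eq_zero] at h1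
    exact h1.resolve_right (Nat.cast_ne_zero.mpr (finrank_pos_of_irreducible ρ).ne')
  have e : ∀ n : N, ρ.character (g * n) = ρ.character g := fun n => by
    obtain ⟨x, hx⟩ := h g hg n n.2
    rw [← hx, Representation.char_conj]
  have h2 : (Nat.card N : ℂ) * ρ.character g = 0 := by
    rw [Nat.card_eq_fintype_card, ← nsmul_eq_mul, ← Finset.card_univ, ← Finset.sum_const]
    calc ∑ _n : N, ρ.character g = ∑ n : N, ρ.character (g * n) :=
          Finset.sum_congr rfl fun n _ => (e n).symm
      _ = ∑ x, f x * LinearMap.trace ℂ _ (ρ g ∘ₗ ρ x) := by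
          rw [hsum]
          refine Finset.sum_congr rfl fun n _ => ?_
          rw [Representation.character, map_mul]
          rfl
      _ = LinearMap.trace ℂ _ (ρ g ∘ₗ groupSum f ρ) := by
          rw [groupSum, ← Module.End.mul_eq_comp, Finset.mul_sum, map_sum]
          simp [Module.End.mul_eq_comp]
      _ = 0 := by rw [hc, hc0, zero_smul, LinearMap.comp_zero, map_zero]
  exact (mul_eq_zero.1 h2).resolve_left (Nat.cast_ne_zero.mpr Nat.card_pos.ne')

/-- For a prime dividing both `|N|` and `|G : N|`, `N` has a linear character of that order. -/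
theorem exists_linear (h : IsCam N) {r : ℕ} [hr : Fact r.Prime] (hrN : r ∣ Nat.card N)
    (hri : r ∣ N.index) : ∃ c : N →* ℂˣ, c ^ r = 1 ∧ c ≠ 1 := by
  classical
  by_contra hno
  push Not at hno
  obtain ⟨P⟩ : Nonempty (Sylow r G) := inferInstance
  haveI : Fintype N := Fintype.ofFinite N
  -- a nonprincipal `P`-invariant character of degree prime to `r`
  letI : MulAction (P : Subgroup G) (IrrCharacter N) :=
    { smul := fun g θ => ⟨conjChar N (g : G)⁻¹ θ.1, isIrrCharacter_conjChar N θ.2 _⟩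
      one_smul := fun θ => Subtype.ext (by
        show conjChar N ((1 : G))⁻¹ θ.1 = θ.1
        rw [inv_one, conjChar_one])
      mul_smul := fun a b θ => Subtype.ext (by
        show conjChar N ((a : G) * b)⁻¹ θ.1 = conjChar N (a : G)⁻¹ (conjChar N (b : G)⁻¹ θ.1)
        rw [mul_inv_rev, conjChar_mul]) }
  have hdg : ∀ θ : IrrCharacter N, (θ : N → ℂ) 1 = (charDegree (θ : N → ℂ) : ℂ) := by
    intro θ
    obtain ⟨d, -, hd⟩ := IsIrrCharacter.exists_degree θ.2
    rw [hd, charDegree, hd, Complex.natCast_re, Nat.floor_natCast]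
  have hw : ∀ (g : (P : Subgroup G)) (θ : IrrCharacter N),
      charDegree ((g • θ : IrrCharacter N) : N → ℂ) ^ 2 = charDegree (θ : N → ℂ) ^ 2 := by
    intro g θ
    have : ((g • θ : IrrCharacter N) : N → ℂ) 1 = (θ : N → ℂ) 1 :=
      congrArg θ.1 (Subtype.ext (by simp))
    rw [charDegree, charDegree, this]
  have hmod := Char.TC.sum_modEq_fixed P.isPGroup' (fun θ : IrrCharacter N =>
    charDegree (θ : N → ℂ) ^ 2) hw
  have hsum : ∑ θ : IrrCharacter N, charDegree (θ : N → ℂ) ^ 2 = Nat.card N := by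
    have h := sum_sq_degree (G := N)
    simp only [hdg] at h
    exact_mod_cast h
  simp only [hsum] at hmod
  set F := Finset.univ.filter fun θ : IrrCharacter N =>
    θ ∈ MulAction.fixedPoints (P : Subgroup G) (IrrCharacter N) with hF
  obtain ⟨θ, hθF, hθ1, hθr⟩ : ∃ θ ∈ F, (θ : N → ℂ) ≠ (fun _ => 1) ∧
      ¬ r ∣ charDegree (θ : N → ℂ) := by
    by_contra hc
    push Not at hc
    set one : IrrCharacter N := ⟨fun _ => 1, isIrrCharacter_one⟩
    have hone : one ∈ F := by
      rw [hF, Finset.mem_filter]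
      exact ⟨Finset.mem_univ _, fun g => Subtype.ext rfl⟩
    have h1 : charDegree (one : N → ℂ) = 1 := by
      rw [charDegree]
      show ⌊(1 : ℂ).re⌋₊ = 1
      simp
    rw [← Finset.add_sum_erase F _ hone, h1] at hmod
    have h2 : r ∣ ∑ θ ∈ F.erase one, charDegree (θ : N → ℂ) ^ 2 :=
      Finset.dvd_sum fun θ hθ => dvd_pow
        (hc θ (Finset.mem_of_mem_erase hθ) fun e => Finset.ne_of_mem_erase hθ (Subtype.ext e))
        two_ne_zero
    have h3 : 0 ≡ 1 [MOD r] :=
      ((Nat.modEq_zero_iff_dvd.2 hrN).symm.trans hmod).trans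
        (by simpa using (Nat.modEq_zero_iff_dvd.2 h2).add_left 1)
    exact hr.out.ne_one (Nat.dvd_one.1 (Nat.modEq_zero_iff_dvd.1 h3.symm))
  have hinert : (P : Subgroup G) ≤ inertia N (θ : N → ℂ) := fun x hx => by
    have := congrArg Subtype.val ((Finset.mem_filter.mp hθF).2 ⟨x⁻¹, inv_mem hx⟩)
    rw [mem_inertia]
    change conjChar N (x⁻¹)⁻¹ (θ : N → ℂ) = θ at this
    rwa [inv_inv] at this
  set R : Subgroup G := N ⊔ P with hR
  have hNR : N ≤ R := le_sup_left
  have hRT : R ≤ inertia N (θ : N → ℂ) :=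
    sup_le (le_inertia N (IsCharacter.isClassFunction (IsIrrCharacter.isCharacter θ.2))) hinert
  haveI : Fintype R := Fintype.ofFinite R
  set M := N.subgroupOf R
  set k := M.index.factorization r
  have hk : M.index = r ^ k := by
    have h1 : M.index ∣ Nat.card (P : Subgroup G) := by
      show N.relIndex (N ⊔ (P : Subgroup G)) ∣ _
      rw [sup_comm, Subgroup.relIndex_sup_right]
      exact N.relIndex_dvd_card _
    obtain ⟨j, hj⟩ := P.isPGroup'.exists_card_eq
    rw [hj] at h1
    obtain ⟨i, -, hi⟩ := (Nat.dvd_prime_pow hr.out).1 h1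
    simp only [k, hi, Nat.Prime.factorization_pow hr.out, Finsupp.single_eq_same]
  have hRi : ¬ r ∣ R.index := fun hd =>
    P.not_dvd_index (hd.trans (Subgroup.index_dvd_of_le le_sup_right))
  have hiR : M.index * R.index = N.index := Subgroup.relIndex_mul_index hNR
  have hk0 : k ≠ 0 := fun hk0 => by
    rw [hk, hk0, pow_zero, one_mul] at hiR
    exact hRi (hiR ▸ hri)
  let e : M ≃* N := Subgroup.subgroupOfEquivOfLe hNR
  haveI : Fintype M := Fintype.ofFinite M
  have hθM : IsIrrCharacter M (fun m => (θ : N → ℂ) (e m)) := IsIrrCharacter.comp θ.2 e.toMonoidHom e.surjective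
  obtain ⟨ψ, hψ, hψθ⟩ := exists_extension_of_residual M hk
    (fun c hc => by
      have h1 := hno (c.comp e.symm.toMonoidHom) (MonoidHom.ext fun x => DFunLike.congr_fun hc _)
      refine MonoidHom.ext fun x => ?_
      have := DFunLike.congr_fun h1 (e x)
      simpa using this)
    hθM
    (fun g m => by
      have := congrFun ((mem_inertia N).1 (hRT g.2)) (e m)
      exact this)
    (d := charDegree (θ : N → ℂ))
    (by show (θ : N → ℂ) (e 1) = _; rw [map_one, hdg]) hθr
  -- an irreducible character of `G` over the extension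
  obtain ⟨χ, hχ⟩ := IsCharacter.exists_constituent (isCharacter_indFun R (IsIrrCharacter.isCharacter hψ))
    (fun h0 => by
      have h1 := congrFun h0 1
      rw [indFun_one_apply, Pi.zero_apply, mul_eq_zero] at h1
      exact h1.elim (Nat.cast_ne_zero.mpr Subgroup.index_ne_zero_of_finite) (IsIrrCharacter.one_ne_zero hψ))
  have hχc := IsCharacter.isClassFunction (IsIrrCharacter.isCharacter χ.2)
  have hχr := IsCharacter.restrict (IsIrrCharacter.isCharacter χ.2) N
  obtain ⟨a, ha⟩ := IsCharacter.exists_classInner_nat hχr (IsIrrCharacter.isCharacter θ.2)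
  obtain ⟨b, hb⟩ := IsCharacter.exists_classInner_nat
    (IsCharacter.restrict (IsIrrCharacter.isCharacter χ.2) R) (IsIrrCharacter.isCharacter hψ)
  have hb0 : b ≠ 0 := fun hb0 => hχ (by
    rw [← classInner_conj_symm, classInner_indFun_right R ψ hχc, hb, hb0, Nat.cast_zero, map_zero])
  -- the restriction to `R` is supported on `N`
  have key : ∀ hv : ∀ x : G, x ∉ N → (χ : G → ℂ) x = 0, a = r ^ k * b := by
    intro hv
    have e1 : ∑ x : R, (χ : G → ℂ) x * conj (ψ x) =
        ∑ n : N, (χ : G → ℂ) n * conj ((θ : N → ℂ) n) := by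
      rw [← Finset.sum_subset (Finset.subset_univ (Finset.univ.filter fun x : R => (x : G) ∈ N))
        (fun x _ hx => by rw [hv x (fun hxN => hx (by simp [hxN])), zero_mul])]
      refine Finset.sum_bij' (fun x hx => ⟨(x : G), (Finset.mem_filter.1 hx).2⟩)
        (fun n _ => ⟨(n : G), hNR n.2⟩) (by simp) (by simp) (by simp) (by simp) ?_
      intro x hx
      have := hψθ ⟨x, (Finset.mem_filter.1 hx).2⟩
      rw [this]
      rfl
    have e2 : (Nat.card R : ℂ) * b = (Nat.card N : ℂ) * a := by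
      rw [← hb, ← ha]
      simp only [Cfsg.classInner]
      rw [← mul_assoc, ← mul_assoc, mul_inv_cancel₀ (Nat.cast_ne_zero.mpr Nat.card_pos.ne'),
        mul_inv_cancel₀ (Nat.cast_ne_zero.mpr Nat.card_pos.ne'), one_mul, one_mul, e1]
    have e3 : Nat.card N * M.index = Nat.card R := by
      rw [← Nat.card_congr e.toEquiv]
      exact M.card_mul_index
    rw [← e3, hk] at e2
    have e4 : Nat.card N * r ^ k * b = Nat.card N * a := by exact_mod_cast e2
    rw [mul_assoc] at e4
    exact (mul_left_cancel₀ Nat.card_pos.ne' e4).symm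
  -- `a ≠ 0`
  have ha0 : a ≠ 0 := by
    intro ha0
    obtain ⟨m, hm⟩ := IsCharacter.exists_decomp (IsCharacter.restrict (IsIrrCharacter.isCharacter χ.2) R)
    have hmb : m ⟨ψ, hψ⟩ = b := by
      have h1 := hb
      rw [hm, show ψ = ((⟨ψ, hψ⟩ : IrrCharacter R) : R → ℂ) from rfl, classInner_combination] at h1
      exact_mod_cast h1
    have hres : ∀ φ : IrrCharacter R, IsCharacter N (fun n : N => (φ : R → ℂ) ⟨n, hNR n.2⟩) :=
      fun φ => IsCharacter.comp (IsIrrCharacter.isCharacter φ.2) (Subgroup.inclusion hNR)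
    choose c hc using fun φ : IrrCharacter R =>
      IsCharacter.exists_classInner_nat (hres φ) (IsIrrCharacter.isCharacter θ.2)
    have h1 : (fun n : N => (χ : G → ℂ) n) =
        ∑ φ, (m φ : ℂ) • (fun n : N => (φ : R → ℂ) ⟨n, hNR n.2⟩) := by
      funext n
      have := congrFun hm ⟨n, hNR n.2⟩
      simpa using this
    rw [h1, classInner_sum_left] at ha
    simp only [classInner_smul_left, hc] at ha
    have h2 : ∑ φ, m φ * c φ = a := by exact_mod_cast ha
    rw [ha0, Finset.sum_eq_zero_iff] at h2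
    have h3 := h2 ⟨ψ, hψ⟩ (Finset.mem_univ _)
    have h4 : c ⟨ψ, hψ⟩ = 1 := by
      have := hc ⟨ψ, hψ⟩
      rw [show (fun n : N => ψ ⟨n, hNR n.2⟩) = (θ : N → ℂ) from funext fun n => hψθ (e.symm n),
        classInner_self_irr θ.2] at this
      exact_mod_cast this.symm
    rw [hmb, h4, mul_one] at h3
    exact hb0 h3
  have hsum0 : ∑ n : N, (χ : G → ℂ) n = 0 := by
    by_contra hne
    refine hθ1 ?_
    have h1 : classInner (fun n : N => (χ : G → ℂ) n) (fun _ => 1) ≠ 0 := by
      simp only [Cfsg.classInner, map_one, mul_one]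
      exact mul_ne_zero (inv_ne_zero (Nat.cast_ne_zero.mpr Nat.card_pos.ne')) hne
    obtain ⟨g, hg⟩ := (mem_conjOrbit N).1 (restrict_constituent_conj N χ.2 isIrrCharacter_one θ.2 h1
      (by rw [ha]; exact_mod_cast ha0))
    rw [hg]
  have hv : ∀ x : G, x ∉ N → (χ : G → ℂ) x = 0 := fun x hx => vanish h χ.2 hsum0 hx
  -- the norm on `N`
  have hnorm : classInner (fun n : N => (χ : G → ℂ) n) (fun n : N => (χ : G → ℂ) n) = N.index := by
    have h1 := classInner_self_irr χ.2
    simp only [Cfsg.classInner] at h1 ⊢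
    rw [← Finset.sum_subset (Finset.subset_univ (Finset.univ.filter fun x : G => x ∈ N))
        (fun x _ hx => by rw [hv x (fun hxN => hx (by simp [hxN])), zero_mul]),
      Finset.sum_subtype (p := fun x : G => x ∈ N) _ (fun x => by simp)] at h1
    rw [inv_mul_eq_iff_eq_mul₀ (Nat.cast_ne_zero.mpr Nat.card_pos.ne'), mul_one] at h1
    rw [h1, inv_mul_eq_iff_eq_mul₀ (Nat.cast_ne_zero.mpr Nat.card_pos.ne'), ← Nat.cast_mul,
      Subgroup.card_mul_index]
  have hcl := clifford N χ.2 θ.2 (by rw [ha]; exact_mod_cast ha0)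
  have horb : ∀ φ ∈ conjOrbit N (θ : N → ℂ),
      classInner φ (fun n : N => (χ : G → ℂ) n) = a := fun φ hφ => by
    obtain ⟨g, rfl⟩ := (mem_conjOrbit N).1 hφ
    rw [← classInner_conj_symm, classInner_restrict_conjChar N hχc, ha, map_natCast]
  rw [congrArg (fun F => classInner F (fun n : N => (χ : G → ℂ) n)) hcl, classInner_smul_left,
    classInner_sum_left, Finset.sum_congr rfl horb, Finset.sum_const, nsmul_eq_mul, ha] at hnorm
  have h2 : a * ((conjOrbit N (θ : N → ℂ)).card * a) = N.index := by exact_mod_cast hnorm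
  rw [key hv, ← hiR, hk] at h2
  have h3 : r ^ k * (b * ((conjOrbit N (θ : N → ℂ)).card * (r ^ k * b))) = r ^ k * R.index := by
    rw [← h2]
    ring
  have h4 := mul_left_cancel₀ (pow_ne_zero k hr.out.pos.ne') h3
  exact hRi (h4 ▸ (dvd_pow_self r hk0).trans
    (Dvd.intro (b * (b * (conjOrbit N (θ : N → ℂ)).card)) (by ring)))

end Cfsg.Agent.CaminaPair
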