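import Cfsg.Agent.Lib.Camina.Linear
import Cfsg.Agent.Lib.PLocal.FixedPointFree

/-!
# The trichotomy for Camina pairs
-/

set_option autoImplicit false
set_option linter.style.haveILetI false

namespace Cfsg.Agent.CaminaPair

universe u

variable {G : Type u} [Group G] [Finite G] {N : Subgroup G} [N.Normal]

theorem no_rank_two_of_linear (h : IsCam N) {u v : ℕ} (hu : u.Prime) (hv : v.Prime) (huv : u ≠ v)
    (c : N →* ℂˣ) (hc : c ^ u = 1) (hc1 : c ≠ 1) (a b : G ⧸ N) (ha : a ^ v = 1) (hb : b ^ v = 1)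
    (hcom : Commute a b) (ha1 : a ≠ 1) : b ∈ Subgroup.zpowers a := by
  set K := linRes N u
  have hKN : K ≤ N := linRes_le N u
  haveI : K.Normal := linRes_normal N u
  set N' := N.map (QuotientGroup.mk' K) with hN'
  haveI : N'.Normal := Subgroup.Normal.map inferInstance _ (QuotientGroup.mk'_surjective K)
  let f : G ⧸ N →* (G ⧸ K) ⧸ N' :=
    QuotientGroup.map N N' (QuotientGroup.mk' K) (Subgroup.le_comap_map _ _)
  have hf : Function.Injective f := by
    rw [injective_iff_map_eq_one]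
    intro q hq
    obtain ⟨g, rfl⟩ := QuotientGroup.mk_surjective q
    have h1 : QuotientGroup.mk' K g ∈ N' := (QuotientGroup.eq_one_iff _).1 hq
    have h2 : g ∈ N'.comap (QuotientGroup.mk' K) := h1
    rw [hN', Subgroup.comap_map_eq, QuotientGroup.ker_mk', sup_eq_left.2 hKN] at h2
    exact (QuotientGroup.eq_one_iff g).2 h2
  have hne : N' ≠ ⊥ := by
    intro h0
    rw [hN', Subgroup.map_eq_bot_iff, QuotientGroup.ker_mk'] at h0
    exact linRes_ne c hc hc1 (le_antisymm hKN h0)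
  have hexp : ∀ n ∈ N', n ^ u = 1 := by
    rintro _ ⟨n, hn, rfl⟩
    rw [← map_pow]
    exact (QuotientGroup.eq_one_iff _).2 (pow_mem_linRes hn)
  have hab : ∀ m ∈ N', ∀ n ∈ N', m * n = n * m := by
    rintro _ ⟨m, hm, rfl⟩ _ ⟨n, hn, rfl⟩
    rw [← map_mul, ← map_mul, ← mul_inv_eq_one, ← map_inv, ← map_mul]
    exact (QuotientGroup.eq_one_iff _).2 (commutator_mem_linRes hm hn)
  have := no_rank_two (map_quotient h K) hu hv huv hne hexp hab (f a) (f b)
    (by rw [← map_pow, ha, map_one]) (by rw [← map_pow, hb, map_one]) (hcom.map f)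
    (fun h1 => ha1 (hf (h1.trans (map_one f).symm)))
  obtain ⟨i, hi⟩ := Subgroup.mem_zpowers_iff.1 this
  exact Subgroup.mem_zpowers_iff.2 ⟨i, hf (by rw [map_zpow, hi])⟩

theorem isNilpotent_of_not_dvd (h : IsCam N) {t : ℕ} (ht : t.Prime) (hti : t ∣ N.index)
    (htN : ¬ t ∣ Nat.card N) : Group.IsNilpotent N := by
  haveI := Fact.mk ht
  obtain ⟨g, hg⟩ := exists_prime_orderOf_dvd_card' (G := G) t (hti.trans (Subgroup.index_dvd_card N))
  have hgN : g ∉ N := fun hgN => htN (hg ▸ (Subgroup.orderOf_mk g hgN) ▸ orderOf_dvd_natCard _)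
  refine FixedPointFreeThompson.isNilpotent_of_conj N ht g (hg ▸ pow_orderOf_eq_one g) fun x hx hxg => ?_
  have h1 := pow_eq_one h hgN hx hxg
  rw [hg] at h1
  refine orderOf_eq_one_iff.1 (Nat.eq_one_of_dvd_one ?_)
  have h2 : orderOf x ∣ Nat.card N := (Subgroup.orderOf_mk x hx) ▸ orderOf_dvd_natCard _
  rw [← ((Nat.Prime.coprime_iff_not_dvd ht).2 htN).gcd_eq_one]
  exact Nat.dvd_gcd (orderOf_dvd_of_pow_eq_one h1) h2

theorem exists_other_prime {n r : ℕ} (hn : 1 < n) (hr : r.Prime) (h : ¬ IsPrimePow n) :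
    ∃ t : ℕ, t.Prime ∧ t ∣ n ∧ t ≠ r := by
  by_contra hc
  push Not at hc
  have e : n = r ^ n.primeFactorsList.length :=
    Nat.eq_prime_pow_of_unique_prime_dvd (by omega) fun {d} hd hdn => hc d hd hdn
  have h0 : n.primeFactorsList.length ≠ 0 := fun h0 => by rw [h0, pow_zero] at e; omega
  exact h ⟨r, _, hr.prime, Nat.pos_of_ne_zero h0, e.symm⟩

/-- Camina's trichotomy. -/
theorem trichotomy (h : IsCam N) (hN2 : N ≠ ⊤) :
    (∀ x ∈ N, x ≠ 1 → Subgroup.centralizer ({x} : Set G) ≤ N) ∨ IsPrimePow (Nat.card N) ∨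
      IsPrimePow N.index := by
  classical
  haveI : Fintype G := Fintype.ofFinite G
  by_contra hc
  push Not at hc
  obtain ⟨⟨x, hx, hx1, hxc⟩, hNp, hip⟩ := hc
  obtain ⟨y, hy, hyN⟩ := SetLike.not_le_iff_exists.1 hxc
  -- a common prime
  obtain ⟨r, hr, hrN, hri⟩ : ∃ r, r.Prime ∧ r ∣ Nat.card N ∧ r ∣ N.index := by
    have ho : orderOf (y : G ⧸ N) ≠ 1 := fun h1 => hyN ((QuotientGroup.eq_one_iff y).1 (orderOf_eq_one_iff.1 h1))
    obtain ⟨r, hr, hdvd⟩ := Nat.exists_prime_and_dvd ho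
    set z := y ^ (orderOf (y : G ⧸ N) / r) with hz
    have hzo : orderOf (z : G ⧸ N) = r := by
      rw [hz, QuotientGroup.mk_pow]
      exact orderOf_pow_orderOf_div (orderOf_pos _).ne' hdvd
    have hzN : z ∉ N := fun hzN => by
      rw [(QuotientGroup.eq_one_iff z).2 hzN, orderOf_one] at hzo
      exact hr.ne_one hzo.symm
    obtain ⟨m, -, hgN, l, hl⟩ := exists_primary hr hzN (k := 1)
      (by rw [pow_one, ← QuotientGroup.eq_one_iff, QuotientGroup.mk_pow, ← hzo, pow_orderOf_eq_one])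
    have hcom : Commute (z ^ m) x :=
      (Commute.pow_left (show Commute y x from Subgroup.mem_centralizer_singleton_iff.1 hy) _).pow_left m
    have h1 := pow_eq_one h hgN hx hcom
    rw [hl] at h1
    refine ⟨r, hr, ?_, hzo ▸ (Subgroup.index_eq_card N).symm ▸ orderOf_dvd_natCard _⟩
    obtain ⟨j, -, hj⟩ := (Nat.dvd_prime_pow hr).1 (orderOf_dvd_of_pow_eq_one h1)
    have hj0 : j ≠ 0 := fun h0 => hx1 (orderOf_eq_one_iff.1 (by rw [hj, h0, pow_zero]))
    exact (dvd_pow_self r hj0).trans (hj ▸ (Subgroup.orderOf_mk x hx) ▸ orderOf_dvd_natCard _)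
  haveI := Fact.mk hr
  haveI : Fintype N := Fintype.ofFinite N
  obtain ⟨t, ht, hti, htr⟩ := exists_other_prime (Subgroup.one_lt_index_of_ne_top hN2) hr hip
  obtain ⟨s, hs, hsN, hsr⟩ := exists_other_prime
    ((hr.one_lt).trans_le (Nat.le_of_dvd Nat.card_pos hrN)) hr hNp
  obtain ⟨c, hc, hc1⟩ := exists_linear h hrN hri
  have htN : ¬ t ∣ Nat.card N :=
    not_dvd_card h ht hti (no_rank_two_of_linear h hr ht htr.symm c hc hc1)
  haveI := isNilpotent_of_not_dvd h ht hti htN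
  haveI := Fact.mk hs
  obtain ⟨c', hc', hc1'⟩ := exists_linear_of_nilpotent (r := s) N hsN
  exact not_dvd_card h hr hri (no_rank_two_of_linear h hs hr hsr c' hc' hc1') hrN

end Cfsg.Agent.CaminaPair
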